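import Groth.Agent.SplitUnr7.Pieces
import Mathlib.AlgebraicGeometry.Morphisms.FlatMono

/-! Branches of a morphism at finitely many unramified (or étale) points. -/

set_option autoImplicit false
universe u

open CategoryTheory CategoryTheory.Limits AlgebraicGeometry

namespace Groth.Agent.SplitUnr7

set_option backward.isDefEq.respectTransparency.types false

variable {X S : Scheme.{u}}

/-- Changing the source of a pullback. -/
theorem isPullback_mapLeft {X' : Scheme.{u}} (f : X ⟶ S) (e : X' ⟶ X) (f' : X' ⟶ S) (he : e ≫ f = f')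
    {U : Scheme.{u}} (g : U ⟶ S) :
    IsPullback (pullback.map f' g f g e (𝟙 U) (𝟙 S) (by simp [he]) (by simp)) (pullback.fst f' g)
      (pullback.fst f g) e := by
  refine IsPullback.of_right ?_ (pullback.lift_fst _ _ _) (IsPullback.of_hasPullback f g).flip
  rw [pullback.lift_snd, Category.comp_id, he]
  exact (IsPullback.of_hasPullback f' g).flip

theorem mapLeft_snd {X' : Scheme.{u}} (f : X ⟶ S) (e : X' ⟶ X) (f' : X' ⟶ S) (he : e ≫ f = f')
    {U : Scheme.{u}} (g : U ⟶ S) :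
    pullback.map f' g f g e (𝟙 U) (𝟙 S) (by simp [he]) (by simp) ≫ pullback.snd f g = pullback.snd f' g := by
  rw [pullback.lift_snd, Category.comp_id]

/-- Branches at finitely many unramified points. -/
theorem exists_pieces (f : X ⟶ S) (s : S) {ι : Type} [Finite ι] (x : ι → X) (hinj : Function.Injective x)
    (hs : ∀ i, f (x i) = s) (W : ι → X.Opens) (hW : ∀ i, x i ∈ W i) (hWa : ∀ i, IsAffineOpen (W i))
    (hft : ∀ i, LocallyOfFiniteType ((W i).ι ≫ f)) (hur : ∀ i, FormallyUnramified ((W i).ι ≫ f)) :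
    ∃ (U : Scheme.{u}) (g : U ⟶ S) (u : U) (_ : Etale g) (_ : g u = s) (K : Type) (_ : Finite K) (lab : K → ι)
      (V : K → (pullback f g).Opens), Pieces f x W g u K lab V := by
  let C : ULift.{u} ι → Scheme.{u} := fun a => (W a.down : Scheme.{u})
  haveI : ∀ a, IsAffine (C a) := fun a => hWa a.down
  let j : ∐ C ⟶ X := Sigma.desc fun a => (W a.down).ι
  let f₁ : ∐ C ⟶ S := j ≫ f
  have hf₁ : f₁ = Limits.Sigma.desc (f := C) fun a : ULift.{u} ι => (W a.down).ι ≫ f := by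
    refine Sigma.hom_ext _ _ fun a => ?_
    rw [Sigma.ι_desc]
    exact (reassoc_of% (Limits.Sigma.ι_desc (f := C) (fun a : ULift.{u} ι => (W a.down).ι) a)) f
  haveI : LocallyOfFiniteType f₁ := by
    rw [hf₁]; exact IsZariskiLocalAtSource.sigmaDesc (P := @LocallyOfFiniteType) fun a => hft _
  haveI : FormallyUnramified f₁ := by
    rw [hf₁]; exact IsZariskiLocalAtSource.sigmaDesc (P := @FormallyUnramified) fun a => hur _
  haveI : IsSeparated (f₁ ≫ terminal.from S) := by rw [Subsingleton.elim (f₁ ≫ _) (terminal.from _)]; infer_instance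
  haveI : IsSeparated f₁ := IsSeparated.of_comp f₁ (terminal.from S)
  let y : ι → (∐ C : Scheme.{u}) := fun i => Sigma.ι C ⟨i⟩ (⟨x i, hW i⟩ : W i)
  have hjy : ∀ i, j (y i) = x i := fun i => by
    show j (Sigma.ι C ⟨i⟩ _) = _
    rw [← Scheme.Hom.comp_apply, Sigma.ι_desc]
    rfl
  obtain ⟨U, g, u, hg, hgu, K, hK, lab, V, P, hx⟩ := exists_closed_pieces f₁ s y
    (fun a b h => hinj (by rw [← hjy, ← hjy, h])) (fun i => by
      show (j ≫ f) (y i) = s
      rw [Scheme.Hom.comp_apply, hjy, hs])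
  have he : ∀ i, Sigma.ι C ⟨i⟩ ≫ f₁ = (W i).ι ≫ f := fun i => by simp [f₁, j]
  let a := fun i => pullback.map ((W i).ι ≫ f) g f₁ g (Sigma.ι C ⟨i⟩) (𝟙 U) (𝟙 S) (by simp [he]) (by simp)
  let b := fun i => pullback.map ((W i).ι ≫ f) g f g (W i).ι (𝟙 U) (𝟙 S) (by simp) (by simp)
  have ha : ∀ i, IsPullback (a i) (pullback.fst _ _) (pullback.fst f₁ g) (Sigma.ι C ⟨i⟩) := fun i =>
    isPullback_mapLeft f₁ _ _ (he i) g
  have hb : ∀ i, IsPullback (b i) (pullback.fst _ _) (pullback.fst f g) (W i).ι := fun i =>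
    isPullback_mapLeft f _ _ rfl g
  haveI hbo : ∀ i, IsOpenImmersion (b i) := fun i =>
    MorphismProperty.of_isPullback (hb i).flip (inferInstance : IsOpenImmersion (W i).ι)
  haveI hac : ∀ i, IsClosedImmersion (a i) := fun i => by
    haveI : IsFinite (Sigma.ι C ⟨i⟩) := HensCouple7.isFinite_sigmaι _
    haveI : IsClosedImmersion (Sigma.ι C ⟨i⟩) :=
      (IsClosedImmersion.iff_isFinite_and_mono _).mpr ⟨inferInstance, inferInstance⟩
    exact MorphismProperty.of_isPullback (ha i).flip ‹IsClosedImmersion (Sigma.ι C ⟨i⟩)›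
  have hbs : ∀ i w, pullback.snd f g (b i w) = pullback.snd f₁ g (a i w) := fun i w => by
    rw [← Scheme.Hom.comp_apply, ← Scheme.Hom.comp_apply, mapLeft_snd f _ _ rfl g, mapLeft_snd f₁ _ _ (he i) g]
  have hbf : ∀ i w, pullback.fst f g (b i w) = j (pullback.fst f₁ g (a i w)) := fun i w => by
    rw [← Scheme.Hom.comp_apply, (hb i).w, ← Scheme.Hom.comp_apply, ← Scheme.Hom.comp_apply, reassoc_of% (ha i).w,
      Sigma.ι_desc]
  let V' : K → (pullback f g).Opens := fun k => b (lab k) ''ᵁ (a (lab k) ⁻¹ᵁ V k)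
  refine ⟨U, g, u, hg, hgu, K, hK, lab, V', ⟨fun k => ?_, fun k => ?_, fun k => ?_, ?_, ?_⟩⟩
  · rintro _ ⟨w, -, rfl⟩
    show pullback.fst f g (b (lab k) w) ∈ W (lab k)
    rw [← Scheme.Hom.comp_apply, (hb (lab k)).w, Scheme.Hom.comp_apply]
    exact Subtype.coe_prop _
  · haveI := P.closedImm k
    let e := (b (lab k)).isoImage (a (lab k) ⁻¹ᵁ V k)
    have h1 : e.hom ≫ (V' k).ι ≫ pullback.snd f g = (a (lab k) ∣_ V k) ≫ (V k).ι ≫ pullback.snd f₁ g := by
      rw [reassoc_of% ((b (lab k)).isoImage_hom_ι (a (lab k) ⁻¹ᵁ V k)), mapLeft_snd f _ _ rfl g,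
        morphismRestrict_ι_assoc, mapLeft_snd f₁ _ _ (he (lab k)) g]
    haveI : IsClosedImmersion (a (lab k) ∣_ V k) := IsZariskiLocalAtTarget.restrict (hac (lab k)) _
    have h2 : IsClosedImmersion (e.hom ≫ (V' k).ι ≫ pullback.snd f g) := by rw [h1]; infer_instance
    exact (MorphismProperty.cancel_left_of_respectsIso @IsClosedImmersion e.hom _).1 h2
  · obtain ⟨w, hw, hwu⟩ := P.nonempty k
    obtain ⟨p, hp, -⟩ := Scheme.Pullback.exists_preimage_pullback (f := pullback.fst f₁ g) (g := Sigma.ι C ⟨lab k⟩) w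
      (⟨x (lab k), hW _⟩ : W (lab k)) (hx k w hw hwu)
    refine ⟨b (lab k) ((ha (lab k)).isoPullback.inv p), ⟨_, ?_, rfl⟩, ?_⟩
    · show a (lab k) ((ha (lab k)).isoPullback.inv p) ∈ V k
      rw [← Scheme.Hom.comp_apply, IsPullback.isoPullback_inv_fst, hp]; exact hw
    · rw [hbs, show a (lab k) ((ha (lab k)).isoPullback.inv p) = w by
        rw [← Scheme.Hom.comp_apply, IsPullback.isoPullback_inv_fst, hp], hwu]
  · intro k k' w hk hk' hwu
    obtain ⟨p, hp, rfl⟩ := hk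
    obtain ⟨p', hp', hpp⟩ := hk'
    have h1 : pullback.fst f g (b (lab k) p) = x (lab k) := by
      rw [hbf, hx k _ hp ((hbs _ p).symm.trans hwu), hjy]
    have h2 : pullback.fst f g (b (lab k') p') = x (lab k') := by
      rw [hbf, hx k' _ hp' ((hbs _ p').symm.trans ((congrArg (pullback.snd f g) hpp).trans hwu)), hjy]
    have hl : lab k = lab k' := hinj (h1.symm.trans (hpp ▸ h2))
    have hcongr : ∀ i i' (q : ↑(pullback ((W i).ι ≫ f) g)) (q' : ↑(pullback ((W i').ι ≫ f) g)),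
        i = i' → b i q = b i' q' → a i q = a i' q' := by
      rintro i _ q q' rfl hq
      rw [(b i).isOpenEmbedding.injective hq]
    refine P.uniq k k' _ hp ?_ ((hbs _ p).symm.trans hwu)
    rw [hcongr _ _ p p' hl hpp.symm]
    exact hp'
  · intro w i hwu hwx
    obtain ⟨p, hp, hp2⟩ := Scheme.Pullback.exists_preimage_pullback (f := pullback.fst f g) (g := (W i).ι) w
      (⟨x i, hW i⟩ : W i) hwx
    let q := (hb i).isoPullback.inv p
    have hq : b i q = w := by rw [← Scheme.Hom.comp_apply, IsPullback.isoPullback_inv_fst, hp]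
    have hq2 : pullback.fst ((W i).ι ≫ f) g q = (⟨x i, hW i⟩ : W i) := by
      rw [← Scheme.Hom.comp_apply, IsPullback.isoPullback_inv_snd, hp2]
    obtain ⟨k, hk, hkV⟩ := P.cover (a i q) i (by rw [← hbs, hq, hwu]) (by
      rw [← Scheme.Hom.comp_apply, (ha i).w, Scheme.Hom.comp_apply, hq2])
    subst hk
    exact ⟨k, rfl, q, hkV, hq⟩

/-- A closed, étale, surjective branch is an isomorphism. -/
theorem isIso_of_etale {T U : Scheme.{u}} (h : T ⟶ U) [IsClosedImmersion h] [Etale h] (hs : Function.Surjective h) :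
    IsIso h := by
  haveI : IsOpenImmersion h := IsOpenImmersion.of_flat_of_mono _
  refine isIso_of_isOpenImmersion_of_opensRange_eq_top _ (TopologicalSpace.Opens.ext ?_)
  exact hs.range_eq

theorem exists_affine_nhd {f : X ⟶ S} {x : X} (P : MorphismProperty Scheme.{u}) [P.IsStableUnderComposition]
    (hP : ∀ {A B : Scheme.{u}} (e : A ⟶ B) [IsOpenImmersion e], P e) {W : X.Opens} (hx : x ∈ W) (hW : P (W.ι ≫ f)) :
    ∃ W' : X.Opens, x ∈ W' ∧ IsAffineOpen W' ∧ P (W'.ι ≫ f) := by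
  obtain ⟨W', hW', hxW', hle⟩ := exists_isAffineOpen_mem_and_subset hx
  refine ⟨W', hxW', hW', ?_⟩
  have h : X.homOfLE hle ≫ W.ι ≫ f = W'.ι ≫ f := by simp
  rw [← h]
  exact P.comp_mem _ _ (hP _) hW

theorem exists_pieces_iso (f : X ⟶ S) (s : S) {ι : Type} [Finite ι] (x : ι → X) (hinj : Function.Injective x)
    (hs : ∀ i, f (x i) = s) (W : ι → X.Opens) (hW : ∀ i, x i ∈ W i) (hWa : ∀ i, IsAffineOpen (W i))
    (het : ∀ i, Etale ((W i).ι ≫ f)) :
    ∃ (U : Scheme.{u}) (g : U ⟶ S) (u : U) (_ : Etale g) (_ : g u = s) (K : Type) (_ : Finite K) (lab : K → ι)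
      (V : K → (pullback f g).Opens), Pieces f x W g u K lab V ∧ ∀ k, IsIso ((V k).ι ≫ pullback.snd f g) := by
  obtain ⟨U, g, u, hg, hgu, K, hK, lab, V, P⟩ := exists_pieces f s x hinj hs W hW hWa
    (fun i => haveI := het i; inferInstance) (fun i => haveI := het i; inferInstance)
  have het' : ∀ k, Etale ((V k).ι ≫ pullback.snd f g) := fun k => by
    haveI : Etale (((pullback.fst f g) ⁻¹ᵁ W (lab k)).ι ≫ pullback.snd f g) :=
      MorphismProperty.of_isPullback
        ((isPullback_morphismRestrict (pullback.fst f g) (W (lab k))).paste_vert (IsPullback.of_hasPullback f g))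
        (het (lab k))
    have h : (pullback f g).homOfLE (P.sub k) ≫ ((pullback.fst f g) ⁻¹ᵁ W (lab k)).ι ≫ pullback.snd f g =
        (V k).ι ≫ pullback.snd f g := by simp
    rw [← h]
    infer_instance
  let G : U.Opens := ⟨⋂ k, Set.range ((V k).ι ≫ pullback.snd f g),
    isOpen_iInter_of_finite fun k => haveI := het' k; ((V k).ι ≫ pullback.snd f g).isOpenMap.isOpen_range⟩
  have hu : u ∈ G := Set.mem_iInter.mpr fun k => by
    obtain ⟨w, hw, hwu⟩ := P.nonempty k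
    exact ⟨(⟨w, hw⟩ : V k), by rw [Scheme.Hom.comp_apply]; exact hwu⟩
  refine ⟨G, G.ι ≫ g, ⟨u, hu⟩, MorphismProperty.comp_mem @Etale _ _ inferInstance hg, ?_, K, hK, lab, _,
    P.restrict G hu, fun k => ?_⟩
  · rw [Scheme.Hom.comp_apply]; exact hgu
  let m := pullback.map f (G.ι ≫ g) f g (𝟙 X) G.ι (𝟙 S) (by simp) (by simp)
  have hsq := (isPullback_morphismRestrict m (V k)).paste_vert (isPullback_restrictBase f g G)
  haveI := (P.restrict G hu).closedImm k
  haveI : Etale ((m ⁻¹ᵁ V k).ι ≫ pullback.snd f (G.ι ≫ g)) := MorphismProperty.of_isPullback hsq (het' k)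
  refine isIso_of_etale _ fun y => ?_
  obtain ⟨w, hw⟩ := Set.mem_iInter.mp y.2 k
  obtain ⟨p, -, hp⟩ := Scheme.Pullback.exists_preimage_pullback (f := (V k).ι ≫ pullback.snd f g) (g := G.ι) w y hw
  exact ⟨hsq.isoPullback.inv p, by rw [← Scheme.Hom.comp_apply, IsPullback.isoPullback_inv_snd, hp]⟩

/-- Disjointness of the branches of a separated morphism after shrinking. -/
theorem exists_disjoint {f : X ⟶ S} [IsSeparated f] {ι : Type} {x : ι → X} {W : ι → X.Opens} {U : Scheme.{u}}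
    {g : U ⟶ S} {u : U} {K : Type} [Finite K] {lab : K → ι} {V : K → (pullback f g).Opens}
    (P : Pieces f x W g u K lab V) :
    ∃ G : U.Opens, u ∈ G ∧ ∀ k k', k ≠ k' → ∀ w, w ∈ V k → w ∈ V k' → pullback.snd f g w ∉ G := by
  have hc : ∀ p : {p : K × K // p.1 ≠ p.2},
      IsClosed (pullback.snd f g '' ((V p.1.1 : Set ↑(pullback f g)) ∩ V p.1.2)) := fun p => by
    haveI := P.closedImm p.1.1
    haveI := P.closedImm p.1.2
    have h1 := (isClosed_of_closedImm (f := f) (g := g) (V p.1.2)).preimage (V p.1.1).ι.continuous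
    have h2 := ((V p.1.1).ι ≫ pullback.snd f g).isClosedMap _ h1
    convert h2 using 1
    ext y
    constructor
    · rintro ⟨w, ⟨h, h'⟩, rfl⟩
      exact ⟨(⟨w, h⟩ : V p.1.1), h', by rw [Scheme.Hom.comp_apply]; rfl⟩
    · rintro ⟨w, h', rfl⟩
      exact ⟨(V p.1.1).ι w, ⟨w.2, h'⟩, by rw [Scheme.Hom.comp_apply]⟩
  refine ⟨⟨(⋃ p, pullback.snd f g '' ((V (p : {p : K × K // p.1 ≠ p.2}).1.1 : Set ↑(pullback f g)) ∩ V p.1.2))ᶜ,
    (isClosed_iUnion_of_finite hc).isOpen_compl⟩, ?_, fun k k' hne w h h' hG => ?_⟩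
  · intro h
    obtain ⟨⟨⟨k, k'⟩, hne⟩, w, ⟨h, h'⟩, hw⟩ := Set.mem_iUnion.mp h
    exact hne (P.uniq k k' w h h' hw)
  · exact hG (Set.mem_iUnion.mpr ⟨⟨(k, k'), hne⟩, w, ⟨h, h'⟩, rfl⟩)

/-- Decomposition of a separated pullback into the branches and the rest. -/
theorem Pieces.decomp {f : X ⟶ S} [IsSeparated f] {ι : Type} {x : ι → X} {W : ι → X.Opens} {U : Scheme.{u}}
    {g : U ⟶ S} {u : U} {K : Type} [Finite K] {lab : K → ι} {V : K → (pullback f g).Opens}
    (P : Pieces f x W g u K lab V) (hd : ∀ k k', k ≠ k' → ∀ w, w ∈ V k → w ∉ V k') :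
    ∃ (R : (pullback f g).Opens), R ⊔ (⨆ k, V k) = ⊤ ∧ (∀ k, Disjoint R (V k)) ∧
      (∀ k k', k ≠ k' → Disjoint (V k) (V k')) ∧
      (∀ (w : ↑(pullback f g)) (i : ι), w ∈ R → pullback.snd f g w = u → pullback.fst f g w ≠ x i) := by
  have hc : IsClosed (⋃ k, (V k : Set ↑(pullback f g))) := isClosed_iUnion_of_finite fun k => by
    haveI := P.closedImm k
    exact isClosed_of_closedImm (f := f) (g := g) (V k)
  refine ⟨⟨(⋃ k, (V k : Set ↑(pullback f g)))ᶜ, hc.isOpen_compl⟩, ?_, fun k => ?_, fun k k' hne => ?_,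
    fun w i hw hwu hwx => ?_⟩
  · refine eq_top_iff.mpr fun w _ => ?_
    by_cases h : w ∈ ⋃ k, (V k : Set ↑(pullback f g))
    · obtain ⟨k, hk⟩ := Set.mem_iUnion.mp h
      exact (le_sup_right : (⨆ k, V k) ≤ _) (TopologicalSpace.Opens.mem_iSup.mpr ⟨k, hk⟩)
    · exact (le_sup_left : _ ≤ _ ⊔ ⨆ k, V k) h
  · rw [← TopologicalSpace.Opens.coe_disjoint, Set.disjoint_left]
    exact fun w hw hk => hw (Set.mem_iUnion.mpr ⟨k, hk⟩)
  · rw [← TopologicalSpace.Opens.coe_disjoint, Set.disjoint_left]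
    exact hd k k' hne
  · obtain ⟨k, -, hk⟩ := P.cover w i hwu hwx
    exact hw (Set.mem_iUnion.mpr ⟨k, hk⟩)

theorem exists_affine_unramified {f : X ⟶ S} {ι : Type} {x : ι → X}
    (hx : ∀ i, ∃ W : X.Opens, x i ∈ W ∧ LocallyOfFiniteType (W.ι ≫ f) ∧ FormallyUnramified (W.ι ≫ f)) :
    ∃ W : ι → X.Opens, (∀ i, x i ∈ W i) ∧ (∀ i, IsAffineOpen (W i)) ∧ (∀ i, LocallyOfFiniteType ((W i).ι ≫ f)) ∧
      ∀ i, FormallyUnramified ((W i).ι ≫ f) := by
  have key : ∀ i, ∃ W' : X.Opens, x i ∈ W' ∧ IsAffineOpen W' ∧ LocallyOfFiniteType (W'.ι ≫ f) ∧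
      FormallyUnramified (W'.ι ≫ f) := fun i => by
    obtain ⟨W, hxW, h1, h2⟩ := hx i
    obtain ⟨W', hW', hxW', hle⟩ := exists_isAffineOpen_mem_and_subset hxW
    have h : X.homOfLE hle ≫ W.ι ≫ f = W'.ι ≫ f := by simp
    exact ⟨W', hxW', hW', h ▸ inferInstance,
      h ▸ MorphismProperty.comp_mem @FormallyUnramified _ _ inferInstance h2⟩
  choose W h1 h2 h3 h4 using key
  exact ⟨W, h1, h2, h3, h4⟩

end Groth.Agent.SplitUnr7
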