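import Groth.Agent.SplitUnr7.Point
import Groth.Agent.MorLib.QFSplit
import Groth.Agent.AlgSpLib.EtLocalInst
import Groth.Agent.HensCouple7.Coprod

/-! Étale neighbourhoods splitting a morphism at finitely many unramified points. -/

set_option autoImplicit false
universe u

open CategoryTheory CategoryTheory.Limits AlgebraicGeometry

namespace Groth.Agent.SplitUnr7

set_option backward.isDefEq.respectTransparency.types false

variable {X S : Scheme.{u}}

/-- Local closed-immersion branches of `f` over an étale neighbourhood. -/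
structure Pieces (f : X ⟶ S) {ι : Type} (x : ι → X) (W : ι → X.Opens) {U : Scheme.{u}} (g : U ⟶ S) (u : U)
    (K : Type) (lab : K → ι) (V : K → (pullback f g).Opens) : Prop where
  sub : ∀ k, V k ≤ pullback.fst f g ⁻¹ᵁ W (lab k)
  closedImm : ∀ k, IsClosedImmersion ((V k).ι ≫ pullback.snd f g)
  nonempty : ∀ k, ∃ w : ↑(pullback f g), w ∈ V k ∧ pullback.snd f g w = u
  uniq : ∀ (k k' : K) (w : ↑(pullback f g)), w ∈ V k → w ∈ V k' → pullback.snd f g w = u → k = k'
  cover : ∀ (w : ↑(pullback f g)) (i : ι), pullback.snd f g w = u → pullback.fst f g w = x i → ∃ k, lab k = i ∧ w ∈ V k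

theorem isClosed_of_closedImm {f : X ⟶ S} {U : Scheme.{u}} {g : U ⟶ S} [IsSeparated f] (V : (pullback f g).Opens)
    [IsClosedImmersion (V.ι ≫ pullback.snd f g)] : IsClosed (V : Set ↑(pullback f g)) := by
  haveI : IsClosedImmersion V.ι := IsClosedImmersion.of_comp V.ι (pullback.snd f g)
  rw [← Scheme.Opens.range_ι V]
  exact V.ι.isClosedEmbedding.isClosed_range

/-- The square obtained by restricting the base to an open. -/
theorem isPullback_restrictBase (f : X ⟶ S) {U : Scheme.{u}} (g : U ⟶ S) (G : U.Opens) :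
    IsPullback (pullback.map f (G.ι ≫ g) f g (𝟙 X) G.ι (𝟙 S) (by simp) (by simp)) (pullback.snd f (G.ι ≫ g))
      (pullback.snd f g) G.ι := by
  refine IsPullback.of_right ?_ (pullback.lift_snd _ _ _) (IsPullback.of_hasPullback f g)
  rw [pullback.lift_fst, Category.comp_id]
  exact IsPullback.of_hasPullback f (G.ι ≫ g)

theorem Pieces.restrict {f : X ⟶ S} {ι : Type} {x : ι → X} {W : ι → X.Opens} {U : Scheme.{u}} {g : U ⟶ S} {u : U}
    {K : Type} {lab : K → ι} {V : K → (pullback f g).Opens} (P : Pieces f x W g u K lab V) (G : U.Opens) (hu : u ∈ G) :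
    Pieces f x W (G.ι ≫ g) ⟨u, hu⟩ K lab
      (fun k => pullback.map f (G.ι ≫ g) f g (𝟙 X) G.ι (𝟙 S) (by simp) (by simp) ⁻¹ᵁ V k) := by
  let m := pullback.map f (G.ι ≫ g) f g (𝟙 X) G.ι (𝟙 S) (by simp) (by simp)
  have hm : IsPullback m (pullback.snd f (G.ι ≫ g)) (pullback.snd f g) G.ι := isPullback_restrictBase f g G
  haveI : IsOpenImmersion m := MorphismProperty.of_isPullback hm.flip (inferInstance : IsOpenImmersion G.ι)
  have hfst : ∀ w, pullback.fst f g (m w) = pullback.fst f (G.ι ≫ g) w := fun w => by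
    rw [← Scheme.Hom.comp_apply, pullback.lift_fst, Category.comp_id]
  have hsnd : ∀ w, pullback.snd f g (m w) = G.ι (pullback.snd f (G.ι ≫ g) w) := fun w => by
    rw [← Scheme.Hom.comp_apply, hm.w, Scheme.Hom.comp_apply]
  have hu' : ∀ w, pullback.snd f g (m w) = u ↔ pullback.snd f (G.ι ≫ g) w = ⟨u, hu⟩ := fun w => by
    rw [hsnd]
    exact ⟨fun h => G.ι.isOpenEmbedding.injective h, fun h => by rw [h]; rfl⟩
  refine ⟨fun k w hw => ?_, fun k => ?_, fun k => ?_, fun k k' w h h' hw => P.uniq k k' _ h h' ((hu' w).2 hw),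
    fun w i hw hwx => P.cover (m w) i ((hu' w).2 hw) ((hfst w).trans hwx)⟩
  · show pullback.fst f (G.ι ≫ g) w ∈ W (lab k)
    rw [← hfst]; exact P.sub k hw
  · haveI := P.closedImm k
    exact MorphismProperty.of_isPullback ((isPullback_morphismRestrict m (V k)).paste_vert hm) (P.closedImm k)
  · obtain ⟨w, hw, hwu⟩ := P.nonempty k
    obtain ⟨w', hw', -⟩ := Scheme.Pullback.exists_preimage_pullback (f := pullback.snd f g) (g := G.ι) w ⟨u, hu⟩ hwu
    refine ⟨hm.isoPullback.inv w', ?_, ?_⟩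
    · show m (hm.isoPullback.inv w') ∈ V k
      rw [← Scheme.Hom.comp_apply, IsPullback.isoPullback_inv_fst, hw']; exact hw
    · rw [← hu', show m (hm.isoPullback.inv w') = w by rw [← Scheme.Hom.comp_apply, IsPullback.isoPullback_inv_fst, hw'], hwu]

/-- The separated case: closed branches, pairwise disjoint. -/
theorem exists_closed_pieces (f : X ⟶ S) [LocallyOfFiniteType f] [IsSeparated f] [FormallyUnramified f] (s : S)
    {ι : Type} [Finite ι] (x : ι → X) (hinj : Function.Injective x) (hs : ∀ i, f (x i) = s) :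
    ∃ (U : Scheme.{u}) (g : U ⟶ S) (u : U) (_ : Etale g) (_ : g u = s) (K : Type) (_ : Finite K) (lab : K → ι)
      (V : K → (pullback f g).Opens), Pieces f x (fun _ => ⊤) g u K lab V ∧
        ∀ k w, w ∈ V k → pullback.snd f g w = u → pullback.fst f g w = x (lab k) := by
  haveI : LocallyQuasiFinite f := Groth.Agent.AlgSpLib.locallyQuasiFinite_of_formallyUnramified f
  obtain ⟨U, g, u, hg, hgu, J, hJ, V, v, hclop, hdisj, hp, hcov⟩ := Groth.Agent.MorLib.WT.exists_split f s x hinj hs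
    (fun i => (Scheme.Hom.quasiFiniteLocus_eq_top (f := f)).ge (show x i ∈ (⊤ : X.Opens) from trivial))
  let K := Σ i, J i
  have hex : ∀ k : K, ∃ G : U.Opens, u ∈ G ∧ ∀ (T' U' : Scheme.{u}) (a : T' ⟶ V k.1 k.2) (h' : T' ⟶ U')
      (r : U' ⟶ U), IsPullback a h' ((V k.1 k.2).ι ≫ pullback.snd f g) r → Set.range r ⊆ (G : Set U) →
      IsClosedImmersion h' := by
    rintro ⟨i, j⟩
    obtain ⟨hmem, hfin, hvu, huniq, hpi, -⟩ := hp i j
    let h := (V i j).ι ≫ pullback.snd f g
    haveI : IsFinite h := hfin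
    haveI : FormallyUnramified (pullback.snd f g) := MorphismProperty.pullback_snd _ _ ‹FormallyUnramified f›
    haveI : FormallyUnramified h := MorphismProperty.comp_mem @FormallyUnramified _ _ inferInstance inferInstance
    have hhv : h (⟨v i j, hmem⟩ : V i j) = u := by rw [Scheme.Hom.comp_apply]; exact hvu
    obtain ⟨G, hG, hci⟩ := exists_closedImmersion_nhd h ⟨v i j, hmem⟩
      (fun w hw => Subtype.ext (huniq w.1 w.2 (by
        rw [hhv] at hw; rw [← hw, Scheme.Hom.comp_apply]; rfl)))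
      (fun L _ a b ha hb hab => (cancel_mono (V i j).ι).1 (point_eq (pullback.snd f g) (v i j) hpi _ _
        ((Scheme.Hom.comp_apply _ _ _).trans (congrArg (V i j).ι ha))
        ((Scheme.Hom.comp_apply _ _ _).trans (congrArg (V i j).ι hb))
        ((Category.assoc _ _ _).trans (hab.trans (Category.assoc _ _ _).symm))))
    exact ⟨G, hhv ▸ hG, hci⟩
  choose G hG hci using hex
  haveI : Finite K := inferInstance
  let G₀ : U.Opens := ⟨⋂ k, (G k : Set U), isOpen_iInter_of_finite fun k => (G k).isOpen⟩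
  have hu : u ∈ G₀ := Set.mem_iInter.mpr hG
  let m := pullback.map f (G₀.ι ≫ g) f g (𝟙 X) G₀.ι (𝟙 S) (by simp) (by simp)
  have hm : IsPullback m (pullback.snd f (G₀.ι ≫ g)) (pullback.snd f g) G₀.ι := isPullback_restrictBase f g G₀
  haveI : IsOpenImmersion m := MorphismProperty.of_isPullback hm.flip (inferInstance : IsOpenImmersion G₀.ι)
  have hfst : ∀ w, pullback.fst f g (m w) = pullback.fst f (G₀.ι ≫ g) w := fun w => by
    rw [← Scheme.Hom.comp_apply, pullback.lift_fst, Category.comp_id]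
  have hu' : ∀ w, pullback.snd f g (m w) = u ↔ pullback.snd f (G₀.ι ≫ g) w = ⟨u, hu⟩ := fun w => by
    rw [← Scheme.Hom.comp_apply, hm.w, Scheme.Hom.comp_apply]
    exact ⟨fun h => G₀.ι.isOpenEmbedding.injective h, fun h => by rw [h]; rfl⟩
  refine ⟨G₀, G₀.ι ≫ g, ⟨u, hu⟩, MorphismProperty.comp_mem @Etale _ _ inferInstance hg, ?_, K, inferInstance,
    fun k => k.1, fun k => m ⁻¹ᵁ V k.1 k.2, ⟨fun k => le_top, fun k => ?_, fun k => ?_,
      fun k k' w h h' hw => ?_, fun w i hw hwx => ?_⟩, fun k w hw hwu => ?_⟩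
  · rw [Scheme.Hom.comp_apply]; exact hgu
  · refine hci k _ _ _ _ _ ((isPullback_morphismRestrict m (V k.1 k.2)).paste_vert hm) ?_
    rw [Scheme.Opens.range_ι]
    exact Set.iInter_subset _ k
  · obtain ⟨hmem, -, hvu, -, -, -⟩ := hp k.1 k.2
    obtain ⟨w', hw', -⟩ := Scheme.Pullback.exists_preimage_pullback (f := pullback.snd f g) (g := G₀.ι)
      (v k.1 k.2) ⟨u, hu⟩ hvu
    refine ⟨hm.isoPullback.inv w', ?_, ?_⟩
    · show m (hm.isoPullback.inv w') ∈ V k.1 k.2
      rw [← Scheme.Hom.comp_apply, IsPullback.isoPullback_inv_fst, hw']; exact hmem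
    · rw [← hu', show m (hm.isoPullback.inv w') = v k.1 k.2 by rw [← Scheme.Hom.comp_apply, IsPullback.isoPullback_inv_fst, hw'], hvu]
  · obtain ⟨h1, h2⟩ := hdisj k.1 k.2 k'.1 k'.2 ⟨m w, h, h'⟩
    exact Sigma.ext h1 h2
  · obtain ⟨j, hj⟩ := hcov (m w) i ((hu' w).2 hw) ((hfst w).trans hwx)
    exact ⟨⟨i, j⟩, rfl, hj⟩
  · obtain ⟨-, -, -, huniq, -, hx⟩ := hp k.1 k.2
    rw [← hfst, huniq (m w) hw ((hu' w).2 hwu)]
    exact hx

end Groth.Agent.SplitUnr7
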