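import Mathlib

/-! A finite unramified morphism with one, purely inseparable, point in a fibre is a closed immersion nearby. -/

set_option autoImplicit false
universe u

open CategoryTheory CategoryTheory.Limits AlgebraicGeometry

namespace Groth.Agent.SplitUnr7

set_option backward.isDefEq.respectTransparency.types false

theorem point_eq {T U : Scheme.{u}} (h : T ⟶ U) (v : T)
    (hpi : letI := (h.residueFieldMap v).hom.toAlgebra; IsPurelyInseparable ↑(U.residueField (h v)) ↑(T.residueField v))
    {K : Type u} [Field K] (p q : Spec (CommRingCat.of K) ⟶ T) (hp : p (IsLocalRing.closedPoint K) = v)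
    (hq : q (IsLocalRing.closedPoint K) = v) (hpq : p ≫ h = q ≫ h) : p = q := by
  obtain ⟨⟨x, a⟩, rfl⟩ := (Scheme.SpecToEquivOfField K T).symm.surjective p
  obtain ⟨⟨y, b⟩, rfl⟩ := (Scheme.SpecToEquivOfField K T).symm.surjective q
  obtain rfl : x = v := by simpa [Scheme.SpecToEquivOfField] using hp
  obtain rfl : y = x := by simpa [Scheme.SpecToEquivOfField] using hq
  have hsq : ∀ c : T.residueField y ⟶ CommRingCat.of K,
      (Scheme.SpecToEquivOfField K T).symm ⟨y, c⟩ ≫ h =
        (Scheme.SpecToEquivOfField K U).symm ⟨h y, h.residueFieldMap y ≫ c⟩ := fun c => by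
    show (Spec.map c ≫ T.fromSpecResidueField y) ≫ h = Spec.map (h.residueFieldMap y ≫ c) ≫ U.fromSpecResidueField (h y)
    rw [Spec.map_comp, Category.assoc, Category.assoc, Scheme.Hom.SpecMap_residueFieldMap_fromSpecResidueField]
  rw [hsq, hsq] at hpq
  have hab : h.residueFieldMap y ≫ a = h.residueFieldMap y ≫ b :=
    eq_of_heq (Sigma.mk.inj_iff.mp ((Scheme.SpecToEquivOfField K U).symm.injective hpq)).2
  letI := (h.residueFieldMap y).hom.toAlgebra
  haveI := hpi
  have : a.hom = b.hom :=
    IsPurelyInseparable.injective_comp_algebraMap (U.residueField (h y)) (T.residueField y) K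
      (congrArg CommRingCat.Hom.hom hab)
  rw [CommRingCat.hom_ext this]

/-- Near a fibre with a single purely inseparable point, a finite unramified morphism is a closed immersion. -/
theorem exists_closedImmersion_nhd {T U : Scheme.{u}} (h : T ⟶ U) [IsFinite h] [FormallyUnramified h] (v : T)
    (hv : ∀ w, h w = h v → w = v)
    (hpt : ∀ (K : Type u) [Field K] (p q : Spec (CommRingCat.of K) ⟶ T), p (IsLocalRing.closedPoint K) = v →
      q (IsLocalRing.closedPoint K) = v → p ≫ h = q ≫ h → p = q) :
    ∃ G : U.Opens, h v ∈ G ∧ ∀ (T' U' : Scheme.{u}) (k : T' ⟶ T) (h' : T' ⟶ U') (r : U' ⟶ U),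
      IsPullback k h' h r → Set.range r ⊆ (G : Set U) → IsClosedImmersion h' := by
  let p₁ := pullback.fst h h
  let Δ := pullback.diagonal h
  have hfin : IsFinite (p₁ ≫ h) :=
    MorphismProperty.comp_mem @IsFinite _ _ (MorphismProperty.pullback_fst _ _ ‹IsFinite h›) ‹IsFinite h›
  have hB : IsClosed ((p₁ ≫ h) '' (Set.range Δ)ᶜ) :=
    (p₁ ≫ h).isClosedMap _ Δ.isOpenEmbedding.isOpen_range.isClosed_compl
  refine ⟨⟨((p₁ ≫ h) '' (Set.range Δ)ᶜ)ᶜ, hB.isOpen_compl⟩, ?_, ?_⟩
  · rintro ⟨z, hz, hzv⟩
    refine hz ?_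
    have h1 : p₁ z = v := hv _ (by rw [← Scheme.Hom.comp_apply]; exact hzv)
    have h2 : pullback.snd h h z = v := hv _ (by
      rw [← Scheme.Hom.comp_apply, ← pullback.condition]; exact hzv)
    let l := (pullback h h).fromSpecResidueField z
    have hl : l (IsLocalRing.closedPoint ((pullback h h).residueField z)) = z := Scheme.fromSpecResidueField_apply _ _
    have h12 : l ≫ p₁ = l ≫ pullback.snd h h := by
      refine hpt ((pullback h h).residueField z) _ _ ?_ ?_ ?_
      · exact (Scheme.Hom.comp_apply l p₁ _).trans ((congrArg p₁ hl).trans h1)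
      · exact (Scheme.Hom.comp_apply l (pullback.snd h h) _).trans ((congrArg (pullback.snd h h) hl).trans h2)
      · exact (Category.assoc l p₁ h).trans ((congrArg (l ≫ ·) pullback.condition).trans (Category.assoc l _ h).symm)
    have el : l = (l ≫ p₁) ≫ Δ := by
      refine pullback.hom_ext ?_ ?_
      · simp [p₁, Δ]
      · simp only [p₁, Δ, Category.assoc, pullback.diagonal_snd, Category.comp_id]; exact h12.symm
    refine ⟨(l ≫ p₁) (IsLocalRing.closedPoint ((pullback h h).residueField z)), ?_⟩
    rw [← Scheme.Hom.comp_apply, ← el, hl]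
  · intro T' U' k h' r hsq hr
    rw [IsClosedImmersion.iff_isFinite_and_mono]
    refine ⟨MorphismProperty.of_isPullback hsq ‹_›, ⟨fun {Z} a b hab => ?_⟩⟩
    let ℓ : Z ⟶ pullback h h := pullback.lift (a ≫ k) (b ≫ k) (by
      rw [Category.assoc, Category.assoc, hsq.w, reassoc_of% hab])
    have hℓ : Set.range ℓ ⊆ Set.range Δ := by
      rintro _ ⟨t, rfl⟩
      by_contra hn
      refine hr ⟨(a ≫ h') t, rfl⟩ ⟨ℓ t, hn, ?_⟩
      rw [← Scheme.Hom.comp_apply, ← Scheme.Hom.comp_apply, Category.assoc, ← hsq.w, ← Category.assoc,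
        pullback.lift_fst, Category.assoc]
    have e := IsOpenImmersion.lift_fac Δ ℓ hℓ
    have hak : a ≫ k = b ≫ k := by
      have e1 := congrArg (· ≫ pullback.fst h h) e
      have e2 := congrArg (· ≫ pullback.snd h h) e
      simp only [Category.assoc, Δ, pullback.diagonal_fst, pullback.diagonal_snd, Category.comp_id, ℓ,
        pullback.lift_fst, pullback.lift_snd] at e1 e2
      exact e1.symm.trans e2
    exact hsq.hom_ext hak hab

end Groth.Agent.SplitUnr7
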